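import Mathlib

/-!
Two-sided quadratic pairs: if `K` is generated by two conjugates of an abelian `Y`, with `A` the
normal closure of `Y ∩ A` normalizing `Y`, then a product `u * l` of elements of the two
conjugates acts without fixed points on `A / (Y ∩ Z(K))`.
-/

set_option autoImplicit false

namespace Cfsg.Agent.Lib.FrakLFpf

open Subgroup
open scoped commutatorElement

variable {K : Type*} [Group K]

/-- The hypotheses on a subgroup `Y`. -/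
structure Root (A Y : Subgroup K) : Prop where
  normal : A.Normal
  comm : ∀ a ∈ Y, ∀ b ∈ Y, a * b = b * a
  norm : A ≤ normalizer (Y : Set K)
  closure_inf : Subgroup.normalClosure ((Y ⊓ A : Subgroup K) : Set K) = A
  closure_self : Subgroup.normalClosure (Y : Set K) = ⊤
  max : ∀ X : Subgroup K, Y ≤ X → X ≠ ⊤ → X ≤ normalizer (Y : Set K)

/-- The conjugate of a subgroup. -/
abbrev cnj (g : K) (Y : Subgroup K) : Subgroup K := Y.map (MulAut.conj g).toMonoidHom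

theorem mem_cnj {g x : K} {Y : Subgroup K} : x ∈ cnj g Y ↔ g⁻¹ * x * g ∈ Y := by
  rw [Subgroup.mem_map_equiv, MulAut.conj_symm_apply]

theorem conj_mem_normalizer {g x : K} {Y : Subgroup K} (h : g⁻¹ * x * g ∈ normalizer (Y : Set K)) :
    x ∈ normalizer (cnj g Y : Set K) := by
  rw [mem_normalizer_iff] at h ⊢
  intro n
  rw [mem_cnj, mem_cnj, h (g⁻¹ * n * g), iff_eq_eq]
  congr 1
  group

theorem Root.conj {A Y : Subgroup K} (h : Root A Y) (g : K) : Root A (cnj g Y) := by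
  have hAn := h.normal
  refine ⟨hAn, ?_, fun a ha => conj_mem_normalizer (h.norm (by simpa using hAn.conj_mem a ha g⁻¹)),
    ?_, ?_, ?_⟩
  · intro a ha b hb
    rw [mem_cnj] at ha hb
    have := h.comm _ ha _ hb
    calc a * b = g * ((g⁻¹ * a * g) * (g⁻¹ * b * g)) * g⁻¹ := by group
      _ = g * ((g⁻¹ * b * g) * (g⁻¹ * a * g)) * g⁻¹ := by rw [this]
      _ = b * a := by group
  · refine le_antisymm (normalClosure_le_normal fun x hx => hx.2) ?_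
    conv_lhs => rw [← h.closure_inf]
    refine normalClosure_le_normal fun x hx => ?_
    have h1 : g * x * g⁻¹ ∈ normalClosure ((cnj g Y ⊓ A : Subgroup K) : Set K) :=
      subset_normalClosure ⟨mem_cnj.2 (by simpa [mul_assoc] using hx.1), hAn.conj_mem x hx.2 g⟩
    simpa [mul_assoc] using normalClosure_normal.conj_mem _ h1 g⁻¹
  · rw [eq_top_iff]
    conv_lhs => rw [← h.closure_self]
    refine normalClosure_le_normal fun x hx => ?_
    have h1 : g * x * g⁻¹ ∈ normalClosure (cnj g Y : Set K) :=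
      subset_normalClosure (mem_cnj.2 (by simpa [mul_assoc] using hx))
    simpa [mul_assoc] using normalClosure_normal.conj_mem _ h1 g⁻¹
  · intro X hYX hX x hx
    refine conj_mem_normalizer (h.max (X.comap (MulAut.conj g).toMonoidHom) ?_ ?_ ?_)
    · intro y hy
      exact hYX ⟨y, hy, rfl⟩
    · intro he
      apply hX
      rw [eq_top_iff]
      intro z _
      have : g⁻¹ * z * g ∈ X.comap (MulAut.conj g).toMonoidHom := he ▸ mem_top _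
      simpa [mul_assoc] using this
    · simpa [mul_assoc] using hx

variable {A Y₁ Y₂ : Subgroup K}

theorem sup_eq_top (h₁ : Root A Y₁) (hn : ¬ Y₂ ≤ normalizer (Y₁ : Set K)) : Y₁ ⊔ Y₂ = ⊤ := by
  by_contra h
  exact hn (le_sup_right.trans (h₁.max _ le_sup_left h))

theorem inf_le_center (h₁ : Root A Y₁) (h₂ : Root A Y₂) (htop : Y₁ ⊔ Y₂ = ⊤) :
    Y₁ ⊓ Y₂ ≤ center K := by
  rintro x ⟨hx1, hx2⟩
  have : Y₁ ⊔ Y₂ ≤ centralizer {x} := sup_le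
    (fun y hy => mem_centralizer_singleton_iff.2 (h₁.comm y hy x hx1))
    (fun y hy => mem_centralizer_singleton_iff.2 (h₂.comm y hy x hx2))
  rw [mem_center_iff]
  exact fun g => mem_centralizer_singleton_iff.1 (this (htop ▸ mem_top g))

theorem sup_inf_eq (h₁ : Root A Y₁) (h₂ : Root A Y₂) (htop : Y₁ ⊔ Y₂ = ⊤) :
    (Y₁ ⊓ A) ⊔ (Y₂ ⊓ A) = A := by
  refine le_antisymm (sup_le inf_le_right inf_le_right) ?_
  set A₀ := (Y₁ ⊓ A) ⊔ (Y₂ ⊓ A) with hA₀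
  have key : ∀ (Z₁ Z₂ : Subgroup K), Root A Z₁ → Root A Z₂ → Z₁ ⊓ A ≤ A₀ → Z₂ ⊓ A ≤ A₀ →
      ∀ y ∈ Z₁, ∀ v, v ∈ Z₁ ⊓ A ∨ v ∈ Z₂ ⊓ A → y * v * y⁻¹ ∈ A₀ := by
    rintro Z₁ Z₂ g₁ g₂ k₁ k₂ y hy v (hv | hv)
    · rw [g₁.comm y hy v hv.1, mul_inv_cancel_right]; exact k₁ hv
    · have hAn := g₁.normal
      have : v⁻¹ * y * v * y⁻¹ ∈ Z₁ ⊓ A := by
        refine ⟨Z₁.mul_mem ((mem_normalizer_iff''.1 (g₁.norm hv.2) y).1 hy) (Z₁.inv_mem hy), ?_⟩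
        have := A.mul_mem (inv_mem hv.2) (hAn.conj_mem v hv.2 y)
        simpa [mul_assoc] using this
      have h := A₀.mul_mem (k₂ hv) (k₁ this)
      simpa [mul_assoc] using h
  have hn : A₀.Normal := by
    refine normalizer_eq_top_iff.1 (eq_top_iff.2 (htop.ge.trans ?_))
    have aux : ∀ y, (∀ v, v ∈ Y₁ ⊓ A ∨ v ∈ Y₂ ⊓ A → y * v * y⁻¹ ∈ A₀) →
        ∀ a ∈ A₀, y * a * y⁻¹ ∈ A₀ := by
      intro y hy a ha
      have : A₀ ≤ A₀.comap (MulAut.conj y).toMonoidHom :=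
        sup_le (fun v hv => hy v (Or.inl hv)) (fun v hv => hy v (Or.inr hv))
      exact this ha
    have both : ∀ (Z : Subgroup K), (∀ y ∈ Z, ∀ v, v ∈ Y₁ ⊓ A ∨ v ∈ Y₂ ⊓ A → y * v * y⁻¹ ∈ A₀) →
        Z ≤ normalizer (A₀ : Set K) := by
      intro Z hZ y hy
      rw [mem_normalizer_iff]
      refine fun a => ⟨aux y (hZ y hy) a, fun ha => ?_⟩
      simpa [mul_assoc] using aux y⁻¹ (hZ _ (inv_mem hy)) _ ha
    exact sup_le (both Y₁ (key _ _ h₁ h₂ le_sup_left le_sup_right))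
      (both Y₂ fun y hy v hv => key _ _ h₂ h₁ le_sup_right le_sup_left y hy v hv.symm)
  conv_lhs => rw [← h₁.closure_inf]
  exact normalClosure_le_normal fun x hx => le_sup_left (α := Subgroup K) hx

theorem exists_decomp (h₁ : Root A Y₁) (h₂ : Root A Y₂) (htop : Y₁ ⊔ Y₂ = ⊤) {v : K} (hv : v ∈ A) :
    ∃ v₁ ∈ Y₁ ⊓ A, ∃ v₂ ∈ Y₂ ⊓ A, v = v₁ * v₂ := by
  rw [← sup_inf_eq h₁ h₂ htop] at hv
  have hle : Y₂ ⊓ A ≤ normalizer ((Y₁ ⊓ A : Subgroup K) : Set K) := by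
    intro x hx
    have hAn := h₁.normal
    rw [mem_normalizer_iff]
    refine fun n => and_congr ((mem_normalizer_iff.1 (h₁.norm hx.2)) n) ⟨fun hn => hAn.conj_mem n hn x,
      fun hn => ?_⟩
    simpa [mul_assoc] using hAn.conj_mem _ hn x⁻¹
  rw [← SetLike.mem_coe, coe_mul_of_right_le_normalizer_left _ _ hle] at hv
  obtain ⟨v₁, hv₁, v₂, hv₂, rfl⟩ := hv
  exact ⟨v₁, hv₁, v₂, hv₂, rfl⟩

variable {C : Subgroup K}

/-- An element of `Y₂` commuting modulo `C` with an outside element of `Y₁` lies in `C`. -/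
theorem mem_of_commute (h₂ : Root A Y₂) (hC : C ≤ center K) (hY : Y₂ ⊓ center K ≤ C)
    {u v : K} (hu : u ∉ normalizer (Y₂ : Set K)) (hv : v ∈ Y₂) (hc : ⁅u, v⁆ ∈ C) : v ∈ C := by
  have cz : ∀ {c} (_ : c ∈ C) (g : K), g * c = c * g := fun hc g => mem_center_iff.1 (hC hc) g
  have mulE : ∀ x y : K, ⁅y, v⁆ ∈ C → ⁅x * y, v⁆ = ⁅x, v⁆ * ⁅y, v⁆ := fun x y hy => by
    calc ⁅x * y, v⁆ = x * ⁅y, v⁆ * (v * x⁻¹ * v⁻¹) := by simp only [commutatorElement_def]; group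
      _ = ⁅y, v⁆ * ⁅x, v⁆ := by rw [cz hy x]; simp only [commutatorElement_def]; group
      _ = _ := (cz hy _).symm
  let X : Subgroup K :=
    { carrier := {x | ⁅x, v⁆ ∈ C}
      one_mem' := by simp
      mul_mem' := fun {x y} hx hy => by
        show ⁅x * y, v⁆ ∈ C
        rw [mulE x y hy]; exact C.mul_mem hx hy
      inv_mem' := fun {x} hx => by
        show ⁅x⁻¹, v⁆ ∈ C
        have : ⁅x⁻¹, v⁆ = (x⁻¹ * ⁅x, v⁆ * x)⁻¹ := by simp only [commutatorElement_def]; group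
        rw [this, cz hx x⁻¹, inv_mul_cancel_right]; exact C.inv_mem hx }
  have hYX : Y₂ ≤ X := fun y hy => by
    show ⁅y, v⁆ ∈ C
    rw [commutatorElement_eq_one_iff_mul_comm.2 (h₂.comm y hy v hv)]; exact C.one_mem
  have hX : X = ⊤ := by
    by_contra h
    exact hu (h₂.max X hYX h hc)
  have hall : ∀ x, ⁅x, v⁆ ∈ C := fun x => (hX ▸ mem_top x : x ∈ X)
  let f : K →* K := MonoidHom.mk' (fun x => ⁅x, v⁆) fun x y => mulE x y (hall y)
  have : (⊤ : Subgroup K) ≤ f.ker := by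
    rw [← h₂.closure_self]
    exact normalClosure_le_normal fun y hy =>
      commutatorElement_eq_one_iff_mul_comm.2 (h₂.comm y hy v hv)
  exact hY ⟨hv, mem_center_iff.2 fun g => commutatorElement_eq_one_iff_mul_comm.1 (this (mem_top g))⟩

/-- A product of two root elements has no fixed points. -/
theorem mem_of_fixed (h₁ : Root A Y₁) (h₂ : Root A Y₂) (hC : C ≤ center K)
    (hCY : C ≤ Y₁) (hY₁ : Y₁ ⊓ center K ≤ C) (hY₂ : Y₂ ⊓ center K ≤ C) {u l v : K} (hu : u ∈ Y₁) (hl : l ∈ Y₂)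
    (hun : u ∉ normalizer (Y₂ : Set K)) (hln : l ∉ normalizer (Y₁ : Set K)) (hv : v ∈ A)
    (hc : ⁅u * l, v⁆ ∈ C) : v ∈ C := by
  have hAn := h₁.normal
  have cz : ∀ {c} (_ : c ∈ C) (g : K), g * c = c * g := fun hc g => mem_center_iff.1 (hC hc) g
  have htop := sup_eq_top h₁ (fun h => hln (h hl))
  obtain ⟨v₁, ⟨hv₁, hv₁A⟩, v₂, ⟨hv₂, hv₂A⟩, rfl⟩ := exists_decomp h₁ h₂ htop hv
  set t₁ := ⁅u⁻¹, v₂⁆ with ht₁
  set t₂ := ⁅l, v₁⁆ with ht₂
  have ht₁Y : t₁ ∈ Y₁ := by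
    rw [ht₁, commutatorElement_def, inv_inv, mul_assoc u⁻¹ v₂ u, mul_assoc u⁻¹]
    exact mul_mem (inv_mem hu) ((mem_normalizer_iff.1 (h₁.norm hv₂A) u).1 hu)
  have ht₂Y : t₂ ∈ Y₂ := by
    rw [ht₂, commutatorElement_def, mul_assoc (l * v₁), mul_assoc l, ← mul_assoc v₁]
    exact mul_mem hl ((mem_normalizer_iff.1 (h₂.norm hv₁A) _).1 (inv_mem hl))
  have e2 : ⁅l, v₁ * v₂⁆ = t₂ := by
    calc ⁅l, v₁ * v₂⁆ = l * v₁ * (v₂ * l⁻¹) * v₂⁻¹ * v₁⁻¹ := by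
          simp only [commutatorElement_def]; group
      _ = l * v₁ * (l⁻¹ * v₂) * v₂⁻¹ * v₁⁻¹ := by rw [h₂.comm v₂ hv₂ l⁻¹ (inv_mem hl)]
      _ = t₂ := by rw [ht₂, commutatorElement_def]; group
  have e1 : ⁅u⁻¹, v₁ * v₂⁆ = t₁ := by
    calc ⁅u⁻¹, v₁ * v₂⁆ = (u⁻¹ * v₁) * v₂ * u * v₂⁻¹ * v₁⁻¹ := by
          simp only [commutatorElement_def]; group
      _ = (v₁ * u⁻¹) * v₂ * u * v₂⁻¹ * v₁⁻¹ := by rw [h₁.comm v₁ hv₁ u⁻¹ (inv_mem hu)]
      _ = v₁ * t₁ * v₁⁻¹ := by rw [ht₁, commutatorElement_def]; group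
      _ = t₁ := by rw [h₁.comm v₁ hv₁ t₁ ht₁Y, mul_inv_cancel_right]
  have e3 : t₂ = ⁅u * l, v₁ * v₂⁆ * t₁ := by
    rw [← e2, ← e1]
    calc ⁅l, v₁ * v₂⁆ = u⁻¹ * ⁅u * l, v₁ * v₂⁆ * (v₁ * v₂ * u * (v₁ * v₂)⁻¹) := by
          simp only [commutatorElement_def]; group
      _ = ⁅u * l, v₁ * v₂⁆ * ⁅u⁻¹, v₁ * v₂⁆ := by
          rw [cz hc u⁻¹]; simp only [commutatorElement_def]; group
  have hZ := inf_le_center h₁ h₂ htop
  have ht₂1 : t₂ ∈ Y₁ := e3 ▸ mul_mem (hCY hc) ht₁Y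
  have ht₂C : t₂ ∈ C := hY₁ ⟨ht₂1, hZ ⟨ht₂1, ht₂Y⟩⟩
  have ht₁C : t₁ ∈ C := by
    have h : (⁅u * l, v₁ * v₂⁆)⁻¹ * t₂ = t₁ := by rw [e3, inv_mul_cancel_left]
    exact h ▸ C.mul_mem (C.inv_mem hc) ht₂C
  exact C.mul_mem (mem_of_commute h₁ hC hY₁ hln hv₁ ht₂C)
    (mem_of_commute h₂ hC hY₂ (fun h => hun (by simpa using inv_mem h)) hv₂ ht₁C)

end Cfsg.Agent.Lib.FrakLFpf
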