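import Mathlib
import Cfsg.Agent.Lib.FrakLFpf.Core

/-!
The criterion in the quotient by `A`.
-/

set_option autoImplicit false

namespace Cfsg.Agent.Lib.FrakLFpf

open Subgroup
open scoped commutatorElement

variable {X : Type*} [Group X]

/-- A product of elements of two conjugates of `P`, neither normalizing the other conjugate. -/
def IsProd (P : Subgroup X) (x : X) : Prop :=
  ∃ a b u l : X, u ∈ cnj a P ∧ l ∈ cnj b P ∧ u ∉ normalizer (cnj b P : Set X) ∧
    l ∉ normalizer (cnj a P : Set X) ∧ u * l = x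

/-- The condition on an element of the quotient. -/
def Good (P : Subgroup X) (x : X) : Prop :=
  ∃ k : ℕ, IsProd P (x ^ k) ∨ ∃ x₁ x₂ : X, x₁ * x₁ = x ^ k ∧ x₂ * x₂ = x ^ k ∧
    IsProd P x₁ ∧ IsProd P x₂ ∧ IsProd P (x₁ * x₂)

variable {K : Type*} [Group K]

theorem criterion {p : ℕ} {A Y : Subgroup K} (hY : Root A Y) (hAp : IsPGroup p A)
    (hYp : IsPGroup p Y) (φ : K →* X) (hφ : Function.Surjective φ) (hker : φ.ker = A)
    (hQ : ∀ x : X, (¬ ∃ k : ℕ, x ^ p ^ k = 1) → Good (Y.map φ) x) {h a : K}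
    (hh : ¬ ∃ k : ℕ, h ^ p ^ k = 1) (ha : a ∈ A) (hc : ⁅h, a⁆ ∈ Y ⊓ center K) :
    a ∈ Y ⊓ center K := by
  set C := Y ⊓ center K with hCdef
  have hC : C ≤ center K := inf_le_right
  haveI hCn : C.Normal := ⟨fun c hc' g => by
    rw [mem_center_iff.1 (hC hc') g, mul_inv_cancel_right]; exact hc'⟩
  set q := QuotientGroup.mk' C with hq
  have hqc : ∀ x v : K, ⁅x, v⁆ ∈ C ↔ q x * q v = q v * q x := fun x v => by
    rw [← commutatorElement_eq_one_iff_mul_comm, ← map_commutatorElement]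
    exact (QuotientGroup.eq_one_iff _).symm
  have hCle : ∀ g, C ≤ cnj g Y := fun g c hc' => mem_cnj.2 (by
    rw [mem_center_iff.1 (hC hc') g⁻¹, inv_mul_cancel_right]; exact hc'.1)
  have hZle : ∀ g, cnj g Y ⊓ center K ≤ C := fun g c hc' => by
    refine ⟨?_, hc'.2⟩
    have := mem_cnj.1 hc'.1
    rwa [mem_center_iff.1 hc'.2 g⁻¹, inv_mul_cancel_right] at this
  -- `A` is abelian modulo `C`
  have hab : ∀ v ∈ A, ∀ w ∈ A, q v * q w = q w * q v := by
    obtain ⟨g, hg⟩ : ∃ g, ¬ cnj g Y ≤ normalizer (Y : Set K) := by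
      by_contra hcon
      push Not at hcon
      apply hh
      have hN : (⊤ : Subgroup K) ≤ normalizer (Y : Set K) := by
        rw [← hY.closure_self]
        refine (closure_le _).2 fun x hx => ?_
        obtain ⟨y, hy, hyx⟩ := Group.mem_conjugatesOfSet_iff.1 hx
        obtain ⟨c, rfl⟩ := isConj_iff.1 hyx
        exact hcon c (mem_cnj.2 (by simpa [mul_assoc] using hy))
      haveI : Y.Normal := normalizer_eq_top_iff.1 (top_le_iff.1 hN)
      have hT : h ∈ Y := by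
        rw [← normalClosure_eq_self Y, hY.closure_self]; exact mem_top h
      obtain ⟨k, hk⟩ := hYp ⟨h, hT⟩
      exact ⟨k, congrArg Subtype.val hk⟩
    have h₂ := hY.conj g
    have htop := sup_eq_top hY hg
    have hAn := hY.normal
    have hYY : Y ⊓ cnj g Y ≤ C := fun x hx => ⟨hx.1, inf_le_center hY h₂ htop hx⟩
    have cross : ∀ x ∈ Y ⊓ A, ∀ y ∈ cnj g Y ⊓ A, q x * q y = q y * q x := fun x hx y hy => by
      rw [← hqc]
      refine hYY ⟨?_, ?_⟩
      · rw [commutatorElement_def, mul_assoc x, mul_assoc x]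
        exact Y.mul_mem hx.1 ((mem_normalizer_iff.1 (hY.norm hy.2) _).1 (inv_mem hx.1))
      · rw [commutatorElement_def]
        exact (cnj g Y).mul_mem ((mem_normalizer_iff.1 (h₂.norm hx.2) y).1 hy.1) (inv_mem hy.1)
    intro v hv w hw
    obtain ⟨v₁, hv₁, v₂, hv₂, rfl⟩ := exists_decomp hY h₂ htop hv
    obtain ⟨w₁, hw₁, w₂, hw₂, rfl⟩ := exists_decomp hY h₂ htop hw
    have c11 : Commute (q v₁) (q w₁) := by
      show q v₁ * q w₁ = q w₁ * q v₁
      rw [← map_mul, ← map_mul, hY.comm v₁ hv₁.1 w₁ hw₁.1]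
    have c22 : Commute (q v₂) (q w₂) := by
      show q v₂ * q w₂ = q w₂ * q v₂
      rw [← map_mul, ← map_mul, h₂.comm v₂ hv₂.1 w₂ hw₂.1]
    have c12 : Commute (q v₁) (q w₂) := cross v₁ hv₁ w₂ hw₂
    have c21 : Commute (q v₂) (q w₁) := (cross w₁ hw₁ v₂ hv₂).symm
    rw [map_mul, map_mul]
    exact ((c11.mul_right c12).mul_left (c21.mul_right c22)).eq
  -- lifting
  have hlift : ∀ x x' : K, φ x = φ x' → ∀ v ∈ A, q x * q v = q v * q x → q x' * q v = q v * q x' := by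
    intro x x' he v hv hxv
    have hw : x⁻¹ * x' ∈ A := by rw [← hker, MonoidHom.mem_ker, map_mul, map_inv, he, inv_mul_cancel]
    have : q x' = q x * q (x⁻¹ * x') := by rw [← map_mul, mul_inv_cancel_left]
    rw [this]
    exact ((show Commute (q x) (q v) from hxv).mul_left (hab _ hw v hv)).eq
  have hprod : ∀ x : K, IsProd (Y.map φ) (φ x) → ∀ v ∈ A, q x * q v = q v * q x → v ∈ C := by
    rintro x ⟨a', b', u, l, hu, hl, hun, hln, hx⟩ v hv hxv
    obtain ⟨a₀, rfl⟩ := hφ a'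
    obtain ⟨b₀, rfl⟩ := hφ b'
    have himg : ∀ g, cnj (φ g) (Y.map φ) = (cnj g Y).map φ := by
      intro g
      ext y
      rw [mem_cnj]
      constructor
      · rintro ⟨z, hz, hzy⟩
        exact ⟨g * z * g⁻¹, mem_cnj.2 (by simpa [mul_assoc] using hz), by
          rw [map_mul, map_mul, map_inv, hzy]; group⟩
      · rintro ⟨z, hz, rfl⟩
        exact ⟨g⁻¹ * z * g, mem_cnj.1 hz, by simp⟩
    rw [himg] at hu hl hun hln
    obtain ⟨u₀, hu₀, rfl⟩ := hu
    obtain ⟨l₀, hl₀, rfl⟩ := hl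
    have hnorm : ∀ g y, y ∈ normalizer (cnj g Y : Set K) →
        φ y ∈ normalizer ((cnj g Y).map φ : Set X) := fun g y hy =>
      le_normalizer_map φ (mem_map_of_mem φ hy)
    refine mem_of_fixed (hY.conj a₀) (hY.conj b₀) hC (hCle a₀) (hZle a₀) (hZle b₀) hu₀ hl₀
      (fun hm => hun (hnorm _ _ hm)) (fun hm => hln (hnorm _ _ hm)) hv ?_
    rw [hqc]
    exact hlift x _ (by rw [map_mul]; exact hx.symm) v hv hxv
  obtain ⟨k, hk⟩ := hQ (φ h) (by
    rintro ⟨k, hk⟩
    have hm : h ^ p ^ k ∈ A := by rw [← hker, MonoidHom.mem_ker, map_pow, hk]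
    obtain ⟨l, hl⟩ := hAp ⟨_, hm⟩
    have hl' : (h ^ p ^ k) ^ p ^ l = 1 := congrArg Subtype.val hl
    exact hh ⟨k + l, by rw [pow_add, pow_mul]; exact hl'⟩)
  have hha : Commute (q (h ^ k)) (q a) := by
    rw [map_pow]; exact (show Commute (q h) (q a) from (hqc h a).1 hc).pow_left k
  rcases hk with hk | ⟨x₁, x₂, h₁, h₂, p₁, p₂, p₁₂⟩
  · exact hprod (h ^ k) (by rw [map_pow]; exact hk) a ha hha
  · obtain ⟨y₁, rfl⟩ := hφ x₁
    obtain ⟨y₂, rfl⟩ := hφ x₂
    have hinv : ∀ y, φ y * φ y = φ h ^ k → IsProd (Y.map φ) (φ y) →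
        q y * q a * (q y)⁻¹ = (q a)⁻¹ := by
      intro y hy py
      have h2 : Commute (q (y * y)) (q a) :=
        hlift (h ^ k) (y * y) (by rw [map_mul, map_pow, hy]) a ha hha
      rw [map_mul] at h2
      have ha' : y * a * y⁻¹ ∈ A := hY.normal.conj_mem a ha y
      have key : q y * q (a * (y * a * y⁻¹)) = q (a * (y * a * y⁻¹)) * q y := by
        have e : q y * (q y * q a * (q y)⁻¹) * (q y)⁻¹ = q a := by
          rw [← mul_assoc, ← mul_assoc, h2.eq]; group
        have hca : q (y * a * y⁻¹) * q a = q a * q (y * a * y⁻¹) := hab _ ha' a ha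
        simp only [map_mul, map_inv] at hca ⊢
        rw [← mul_inv_eq_iff_eq_mul]
        calc q y * (q a * (q y * q a * (q y)⁻¹)) * (q y)⁻¹
            = (q y * q a * (q y)⁻¹) * (q y * (q y * q a * (q y)⁻¹) * (q y)⁻¹) := by group
          _ = (q y * q a * (q y)⁻¹) * q a := by rw [e]
          _ = _ := hca
      have hm := hprod y py _ (A.mul_mem ha ha') key
      have h1 : q (a * (y * a * y⁻¹)) = 1 := (QuotientGroup.eq_one_iff _).2 hm
      simp only [map_mul, map_inv] at h1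
      exact eq_inv_of_mul_eq_one_right h1
    refine hprod (y₁ * y₂) (by rw [map_mul]; exact p₁₂) a ha ?_
    rw [map_mul, ← mul_inv_eq_iff_eq_mul]
    calc q y₁ * q y₂ * q a * (q y₁ * q y₂)⁻¹
        = q y₁ * (q y₂ * q a * (q y₂)⁻¹) * (q y₁)⁻¹ := by group
      _ = (q y₁ * q a * (q y₁)⁻¹)⁻¹ := by rw [hinv y₂ h₂ p₂]; group
      _ = q a := by rw [hinv y₁ h₁ p₁, inv_inv]

end Cfsg.Agent.Lib.FrakLFpf
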