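import Mathlib
import Cfsg.Agent.Lib.FrakLFpf.Criterion

/-!
The case `p = 2`: odd elements inverted by involutions of the class.
-/

set_option autoImplicit false

namespace Cfsg.Agent.Lib.FrakLFpf

open Subgroup

variable {X : Type*} [Group X]

theorem not_mem_normalizer_of_odd {P : Subgroup X} (hP : IsPGroup 2 P) {a u v w : X}
    (hu : u ^ 2 = 1) (hv : v ∈ cnj a P) {n : ℕ} (hn : Odd n) (hw : w ^ n = 1) (hw1 : w ≠ 1)
    (he : w = u * v ∨ w = v * u) : u ∉ normalizer (cnj a P : Set X) := by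
  haveI : Fact (Nat.Prime 2) := ⟨Nat.prime_two⟩
  intro h
  have hz : IsPGroup 2 (zpowers u) := by
    rintro ⟨_, i, rfl⟩
    refine ⟨1, Subtype.ext ?_⟩
    show (u ^ i) ^ 2 ^ 1 = 1
    rw [pow_one, ← zpow_natCast, ← zpow_mul, mul_comm, zpow_mul, zpow_natCast, hu, _root_.one_zpow]
  have hsup : IsPGroup 2 ↥(zpowers u ⊔ cnj a P) :=
    hz.to_sup_of_normal_right' (hP.map _) (zpowers_le.2 h)
  have hwm : w ∈ zpowers u ⊔ cnj a P := by
    rcases he with rfl | rfl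
    · exact mul_mem (mem_sup_left (mem_zpowers u)) (mem_sup_right hv)
    · exact mul_mem (mem_sup_right hv) (mem_sup_left (mem_zpowers u))
  obtain ⟨k, hk⟩ := hsup ⟨w, hwm⟩
  have hk' : w ^ 2 ^ k = 1 := congrArg Subtype.val hk
  have hco : (2 ^ k).Coprime n := Nat.Coprime.pow_left _ (Nat.coprime_two_left.2 hn)
  have := pow_gcd_eq_one.2 ⟨hk', hw⟩
  rw [hco.gcd_eq_one, pow_one] at this
  exact hw1 this

theorem isProd_of_inverted {P : Subgroup X} (hP : IsPGroup 2 P) {s a u : X} (hu : u ∈ cnj a P)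
    (hu2 : u ^ 2 = 1) {n : ℕ} (hn : Odd n) (hs : s ^ n = 1) (hs1 : s ≠ 1)
    (hinv : u * s * u⁻¹ = s⁻¹) : IsProd P s := by
  obtain ⟨k, hk⟩ := hn
  subst hk
  set s₀ := s ^ (k + 1) with hs₀
  have e : s₀ * s₀ = s := by
    rw [hs₀, ← pow_add, show k + 1 + (k + 1) = 2 * k + 1 + 1 by omega, pow_succ, hs, one_mul]
  have hinv0 : u * s₀ * u⁻¹ = s₀⁻¹ := by rw [hs₀, ← conj_pow, hinv, inv_pow]
  have hu' : u * u = 1 := by rw [← pow_two]; exact hu2
  set l := u * s with hl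
  have hle : l = s₀⁻¹ * u * s₀ := by
    rw [← hinv0, hl]
    calc u * s = u * (s₀ * s₀) := by rw [e]
      _ = _ := by group
  have hlmem : l ∈ cnj (s₀⁻¹ * a) P := by
    rw [hle, mem_cnj]
    have := mem_cnj.1 hu
    simpa [mul_assoc] using this
  have hl2 : l ^ 2 = 1 := by
    rw [hl, pow_two]
    calc u * s * (u * s) = (u * s * u⁻¹) * ((u * u) * s) := by group
      _ = 1 := by rw [hinv, hu', one_mul, inv_mul_cancel]
  have hsl : s = u * l := by rw [hl, ← mul_assoc, hu', one_mul]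
  exact ⟨a, s₀⁻¹ * a, u, l, hu, hlmem,
    not_mem_normalizer_of_odd hP hu2 hlmem ⟨k, rfl⟩ hs hs1 (Or.inl hsl),
    not_mem_normalizer_of_odd hP hl2 hu ⟨k, rfl⟩ hs hs1 (Or.inr hsl), hsl.symm⟩

/-- Enough: each element of odd prime order is inverted by an involution, all involutions lying
in conjugates of `P`. -/
theorem good_of_real [Finite X] {P : Subgroup X} (hP : IsPGroup 2 P)
    (hinvol : ∀ u : X, orderOf u = 2 → ∃ a, u ∈ cnj a P)
    (hreal : ∀ s : X, ∀ r : ℕ, r.Prime → r ≠ 2 → orderOf s = r →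
      ∃ u : X, orderOf u = 2 ∧ u * s * u⁻¹ = s⁻¹)
    (x : X) (hx : ¬ ∃ k : ℕ, x ^ 2 ^ k = 1) : Good P x := by
  obtain ⟨r, hr, hrd, hr2⟩ : ∃ r : ℕ, r.Prime ∧ r ∣ orderOf x ∧ r ≠ 2 := by
    by_contra h
    push Not at h
    obtain ⟨k, hk⟩ : ∃ k, orderOf x = 2 ^ k :=
      ⟨_, Nat.eq_prime_pow_of_unique_prime_dvd (orderOf_pos x).ne' fun hd hdd => h _ hd hdd⟩
    exact hx ⟨k, hk ▸ pow_orderOf_eq_one x⟩
  refine ⟨orderOf x / r, Or.inl ?_⟩
  have ho : orderOf (x ^ (orderOf x / r)) = r := orderOf_pow_orderOf_div (orderOf_pos x).ne' hrd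
  obtain ⟨u, hu, hinv⟩ := hreal _ r hr hr2 ho
  obtain ⟨a, ha⟩ := hinvol u hu
  refine isProd_of_inverted hP ha (hu ▸ pow_orderOf_eq_one u) (hr.odd_of_ne_two hr2)
    (by have := pow_orderOf_eq_one (x ^ (orderOf x / r)); rwa [ho] at this) (fun h => ?_) hinv
  rw [h, orderOf_one] at ho
  exact hr.ne_one ho.symm

end Cfsg.Agent.Lib.FrakLFpf
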