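import Mathlib
import Cfsg.Agent.Lib.FrakLFpf.Two
import Cfsg.Agent.Lib.NormalEA55
import Cfsg.Agent.Lib.Suzuki.Tori
import Cfsg.Agent.Lib.SuzukiSp4.Iso

/-!
Suzuki and dihedral quotients.
-/

set_option autoImplicit false

namespace Cfsg.Agent.Lib.FrakLFpf

open Subgroup Cfsg.Agent.Lib.Suzuki Cfsg.Agent.Lib.SuzukiSylow

theorem good_dihedral {r : ℕ} (hr : r.Prime) (hr2 : r ≠ 2) {P : Subgroup (DihedralGroup r)}
    (hP : IsPGroup 2 P) (hP1 : P ≠ ⊥) (x : DihedralGroup r) (hx : ¬ ∃ k : ℕ, x ^ 2 ^ k = 1) :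
    Good P x := by
  haveI := Fact.mk Nat.prime_two
  haveI : NeZero r := ⟨hr.ne_zero⟩
  refine good_of_real hP ?_ ?_ x hx
  · intro u hu
    obtain ⟨T, hT⟩ := hP.exists_le_sylow
    have hTP : (T : Subgroup (DihedralGroup r)) = P := by
      obtain ⟨k, hk⟩ := IsPGroup.iff_card.1 T.2
      have hd : 2 ^ k ∣ 2 * r := by
        rw [← hk, ← DihedralGroup.nat_card]; exact card_subgroup_dvd_card _
      have hk1 : k ≤ 1 := by
        by_contra h
        have : 2 ^ 2 ∣ 2 * r := (pow_dvd_pow 2 (by omega)).trans hd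
        have h4 : 2 ∣ r := by
          rw [pow_two] at this; exact Nat.dvd_of_mul_dvd_mul_left two_pos this
        exact hr2 ((Nat.prime_dvd_prime_iff_eq Nat.prime_two hr).1 h4).symm
      refine (eq_of_le_of_card_ge hT ?_).symm
      have hP2 := P.one_lt_card_iff_ne_bot.2 hP1
      have : 2 ^ k ≤ 2 ^ 1 := Nat.pow_le_pow_right (by norm_num) hk1
      omega
    have hz : IsPGroup 2 (zpowers u) := IsPGroup.of_card (n := 1) (by rw [Nat.card_zpowers, hu, pow_one])
    obtain ⟨T', hT'⟩ := hz.exists_le_sylow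
    obtain ⟨a, ha⟩ := MulAction.exists_smul_eq (DihedralGroup r) T T'
    refine ⟨a, ?_⟩
    have := hT' (mem_zpowers u)
    rw [← ha, Sylow.coe_subgroup_smul, hTP] at this
    exact this
  · intro s q hq hq2 hs
    rcases s with i | i
    · refine ⟨DihedralGroup.sr 0, DihedralGroup.orderOf_sr 0, ?_⟩
      simp [DihedralGroup.inv_sr, DihedralGroup.sr_mul_r, DihedralGroup.inv_r, DihedralGroup.sr_mul_sr]
    · rw [DihedralGroup.orderOf_sr] at hs
      exact absurd hs.symm hq2

variable {F : Type*} [Field F] [Fintype F] {m : ℕ}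

theorem exists_conj_central (h : Hyp F m) {g : Cfsg.Sz F m} (hg : g ^ 2 = 1) :
    ∃ x b, g = x * szT h 0 b * x⁻¹ := by
  haveI := Fact.mk Nat.prime_two
  haveI := finite_Sz h
  have hz : IsPGroup 2 (zpowers g) := by
    rintro ⟨_, i, rfl⟩
    refine ⟨1, Subtype.ext ?_⟩
    show (g ^ i) ^ 2 ^ 1 = 1
    rw [pow_one, ← zpow_natCast, ← zpow_mul, mul_comm, zpow_mul, zpow_natCast, hg, _root_.one_zpow]
  obtain ⟨T, hT⟩ := hz.exists_le_sylow
  obtain ⟨x, hx⟩ := exists_conj_transl h T
  obtain ⟨t, ht, htg⟩ := hx.le (hT (mem_zpowers g))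
  obtain ⟨a, b, rfl⟩ := ht
  have htg' : x * szT h a b * x⁻¹ = g := htg
  refine ⟨x, b, ?_⟩
  have h2 : szT h a b ^ 2 = 1 := by
    have hg' : (x * szT h a b * x⁻¹) ^ 2 = 1 := by rw [htg', hg]
    rw [conj_pow, mul_inv_eq_one] at hg'
    exact mul_left_cancel (hg'.trans (mul_one x).symm)
  rw [transl_sq, ← szT_one h] at h2
  have ha : a = 0 := by
    rcases mul_eq_zero.1 (szT_inj h h2).2 with h1 | h1
    · exact theta_eq_zero.1 h1
    · exact h1
  rw [← htg', ha]

theorem good_Sz (h : Hyp F m) {P : Subgroup (Cfsg.Sz F m)} (hP : Cfsg.IsElementaryAbelian 2 P)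
    (hcard : Nat.card P = Fintype.card F) (x : Cfsg.Sz F m) (hx : ¬ ∃ k : ℕ, x ^ 2 ^ k = 1) :
    Good P x := by
  haveI := Fact.mk Nat.prime_two
  haveI := finite_Sz h
  refine good_of_real (NormalEA55.isPGroup_of_EA hP) ?_ ?_ x hx
  · -- one class of central involutions
    intro u hu
    obtain ⟨T, hT⟩ := (NormalEA55.isPGroup_of_EA hP).exists_le_sylow
    obtain ⟨y, hy⟩ := exists_conj_transl h T
    have hall : ∀ b, y * szT h 0 b * y⁻¹ ∈ P := by
      have hsub : ∀ w : P, ∃ b, (w : Cfsg.Sz F m) = y * szT h 0 b * y⁻¹ := by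
        intro w
        obtain ⟨t, ht, htw⟩ := hy.le (hT w.2)
        obtain ⟨a, b, rfl⟩ := ht
        have htw' : y * szT h a b * y⁻¹ = w := htw
        have h2 : (y * szT h a b * y⁻¹) ^ 2 = 1 := by rw [htw']; exact hP.2 _ w.2
        rw [conj_pow, mul_inv_eq_one] at h2
        have h2' : szT h a b ^ 2 = 1 := mul_left_cancel (h2.trans (mul_one y).symm)
        rw [transl_sq, ← szT_one h] at h2'
        have ha : a = 0 := by
          rcases mul_eq_zero.1 (szT_inj h h2').2 with h1 | h1
          · exact theta_eq_zero.1 h1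
          · exact h1
        exact ⟨b, by rw [← htw', ha]⟩
      choose f hf using hsub
      have hinj : Function.Injective f := fun w w' e => Subtype.ext (by rw [hf w, hf w', e])
      have hbij : Function.Bijective f := (Nat.bijective_iff_injective_and_card f).2 ⟨hinj, by
        rw [hcard, Nat.card_eq_fintype_card]⟩
      intro b
      obtain ⟨w, rfl⟩ := hbij.2 b
      rw [← hf w]; exact w.2
    obtain ⟨z, b, rfl⟩ := exists_conj_central h (hu ▸ pow_orderOf_eq_one u)
    exact ⟨z * y⁻¹, mem_cnj.2 (by simpa [mul_assoc] using hall b)⟩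
  · intro s r hr hr2 hs
    have hW : orderOf (szW h) = 2 := orderOf_eq_prime (by rw [pow_two, szW_mul_self]) fun e =>
      ovAff_ne_inf (m := m) (0 : F) 0 (by rw [← szW_inf h, e, one_smul])
    have hs1 : s ≠ 1 := fun e => hr.ne_one (by rw [← hs, e, orderOf_one])
    by_cases hfix : ∃ pt : Cfsg.suzukiOvoid F m, s • pt = pt
    · obtain ⟨pt, hpt⟩ := hfix
      obtain ⟨g, hg⟩ := (isPretransitive_ovoid h).exists_smul_eq (ovInf F m) pt
      have hg1 : g⁻¹ * s * g ≠ 1 := fun e => hs1 (by
        calc s = g * (g⁻¹ * s * g) * g⁻¹ := by group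
          _ = 1 := by rw [e]; group)
      have hgf : (g⁻¹ * s * g) • ovInf F m = ovInf F m := by
        rw [mul_smul, mul_smul, hg, hpt, inv_smul_eq_iff, hg]
      rcases eq_conj_of_fix_inf h hg1 hgf with ht | ⟨k, v, hv, he⟩
      · exfalso
        have hT : IsPGroup 2 (transl h) := IsPGroup.of_card (n := 2 * (2 * m + 1))
          (by rw [card_transl, h.hF, ← pow_mul, mul_comm])
        obtain ⟨i, hi⟩ := hT ⟨_, ht⟩
        have hi' : (g⁻¹ * s * g) ^ 2 ^ i = 1 := congrArg Subtype.val hi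
        have hsi : s ^ 2 ^ i = 1 := by
          calc s ^ 2 ^ i = (g * (g⁻¹ * s * g) * g⁻¹) ^ 2 ^ i := by congr 1; group
            _ = 1 := by rw [conj_pow, hi', mul_one, mul_inv_cancel]
        have := orderOf_dvd_of_pow_eq_one hsi
        rw [hs] at this
        exact hr2 ((Nat.prime_dvd_prime_iff_eq hr Nat.prime_two).1 (hr.dvd_of_dvd_pow this))
      · have hse : s = (g * k) * szH h v * (g * k)⁻¹ := by
          calc s = g * (g⁻¹ * s * g) * g⁻¹ := by group
            _ = _ := by rw [he]; group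
        refine ⟨(g * k) * szW h * (g * k)⁻¹, ?_, ?_⟩
        · rw [← hW]
          exact orderOf_injective (MulAut.conj (g * k)).toMonoidHom (MulEquiv.injective _) (szW h)
        · rw [hse]
          calc _ = (g * k) * (szW h * szH h v * (szW h)⁻¹) * (g * k)⁻¹ := by group
            _ = _ := by
              rw [szW_mul_szH, mul_inv_cancel_right, ← szH_inv]
              group
    · push Not at hfix
      obtain ⟨U, hU, hsU⟩ := exists_torus_of_no_fix h hs1 hfix
      obtain ⟨U₁, U₂, hU₁, hU₂, hN₁, hN₂, hprod, -⟩ := exists_tori h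
      have hrU : r ∣ Nat.card U := hs ▸ Subgroup.orderOf_dvd_natCard U hsU
      have hN : 2 ∣ Nat.card (normalizer (U : Set ↥(Cfsg.Sz F m))) := by
        have main : ∀ W : Subgroup ↥(Cfsg.Sz F m), IsTorus W → r ∣ Nat.card W →
            Nat.card (normalizer (W : Set ↥(Cfsg.Sz F m))) = 4 * Nat.card W →
            2 ∣ Nat.card (normalizer (U : Set ↥(Cfsg.Sz F m))) := by
          intro W hW hrW hNW
          obtain ⟨c, rfl⟩ := exists_conj_of_dvd h hr hW hU hrW hrU
          have hle : (normalizer (W : Set ↥(Cfsg.Sz F m))).map (MulAut.conj c).toMonoidHom ≤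
              normalizer ((W.map (MulAut.conj c).toMonoidHom : Subgroup _) : Set ↥(Cfsg.Sz F m)) :=
            le_normalizer_map _
          refine dvd_trans ?_ (card_dvd_of_le hle)
          rw [card_map_of_injective (MulEquiv.injective _), hNW]
          exact Dvd.dvd.mul_right (by norm_num) _
        rcases (Nat.Prime.dvd_mul hr).1 (hprod ▸ hrU.trans (card_torus_dvd h hU)) with hd | hd
        · exact main U₁ hU₁ hd hN₁
        · exact main U₂ hU₂ hd hN₂
      obtain ⟨⟨u, huN⟩, huo⟩ := exists_prime_orderOf_dvd_card' 2 hN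
      rw [orderOf_mk] at huo
      refine ⟨u, huo, ?_⟩
      have huU : u ∉ U := fun hm => by
        have h1 : 2 ∣ Fintype.card F ^ 2 + 1 :=
          (huo ▸ Subgroup.orderOf_dvd_natCard U hm).trans (card_torus_dvd h hU)
        rw [h.hF, pow_succ' 2 (2 * m)] at h1
        have h2 : 2 ∣ (2 * 2 ^ (2 * m)) ^ 2 := dvd_pow (dvd_mul_right _ _) two_ne_zero
        have := Nat.dvd_sub h1 h2
        simp at this
      have hu2 : u * u = 1 := by
        rw [← pow_two, ← huo, pow_orderOf_eq_one]
      have hui : u⁻¹ = u := inv_eq_of_mul_eq_one_right hu2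
      have hcm : u * s * u⁻¹ ∈ U := (mem_normalizer_iff.1 huN s).1 hsU
      set w := s * (u * s * u⁻¹) with hw
      have hwU : w ∈ U := U.mul_mem hsU hcm
      have hwc : u * w = w * u := by
        rw [← mul_inv_eq_iff_eq_mul]
        calc u * w * u⁻¹ = (u * s * u⁻¹) * ((u * u) * s * (u * u)⁻¹) := by rw [hw]; group
          _ = (u * s * u⁻¹) * s := by rw [hu2]; group
          _ = w := by rw [hw]; exact (torus_comm h hU hsU hcm).symm
      have hw1 : w = 1 := by
        by_contra hne
        apply huU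
        rw [← torus_ti h hU hwU hne]
        exact mem_centralizer_singleton_iff.2 hwc
      exact eq_inv_of_mul_eq_one_right hw1

end Cfsg.Agent.Lib.FrakLFpf
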