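import Mathlib
import Cfsg.Agent.Lib.FrakLFpf.Criterion
import Cfsg.Agent.Lib.NormalEA55
import Cfsg.Agent.Lib.SL2.Basic

/-!
The criterion for `SL₂(q)`: every element of trace different from 2 is, or has as square-root
configuration, a product of two transvections.
-/

set_option autoImplicit false

namespace Cfsg.Agent.Lib.FrakLFpf

open Subgroup Matrix Cfsg.Agent.Lib.SL2

variable {F : Type*} [Field F] {p : ℕ} [hp : Fact p.Prime] [CharP F p]

omit [Fact p.Prime] in
theorem sq_eq_of_det (M : Matrix (Fin 2) (Fin 2) F) (hM : M.det = 1) :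
    M * M = M.trace • M - 1 := by
  rw [Matrix.det_fin_two] at hM
  ext i j
  fin_cases i <;> fin_cases j <;>
    simp [Matrix.mul_apply, Fin.sum_univ_two, Matrix.trace_fin_two] <;>
    first
      | linear_combination -hM
      | ring

theorem trace_eq_two_iff (x : SLtwo F) :
    (x : Matrix (Fin 2) (Fin 2) F).trace = 2 ↔ ∃ k : ℕ, x ^ p ^ k = 1 := by
  set M := (x : Matrix (Fin 2) (Fin 2) F) with hM
  have hdet : M.det = 1 := x.2
  constructor
  · intro ht
    refine ⟨1, ?_⟩
    have h2 : (M - 1) * (M - 1) = 0 := by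
      rw [sub_mul, mul_sub, mul_sub, mul_one, one_mul, one_mul, sq_eq_of_det M hdet, ht, two_smul]
      abel
    apply Matrix.SpecialLinearGroup.ext
    intro i j
    have h : (M - 1) ^ p ^ 1 = 0 := by
      rw [pow_one]
      exact pow_eq_zero_of_le hp.out.two_le (by rw [pow_two, h2])
    rw [sub_pow_char_pow_of_commute (p := p) (h := Commute.one_right M), one_pow, sub_eq_zero] at h
    simpa [Matrix.SpecialLinearGroup.coe_pow, hM] using congrFun (congrFun h i) j
  · rintro ⟨k, hk⟩
    have h : (M - 1) ^ p ^ k = 0 := by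
      rw [sub_pow_char_pow_of_commute (p := p) (h := Commute.one_right M), one_pow, sub_eq_zero, hM,
        ← Matrix.SpecialLinearGroup.coe_pow, hk, Matrix.SpecialLinearGroup.coe_one]
    have hd : (M - 1).det = 0 := by
      have := congrArg Matrix.det h
      rw [Matrix.det_pow, Matrix.det_zero] at this
      exact pow_eq_zero_iff (pow_ne_zero _ hp.out.ne_zero) |>.1 this
    rw [Matrix.det_fin_two] at hd hdet
    rw [Matrix.trace_fin_two]
    simp [Matrix.sub_apply] at hd
    linear_combination hdet - hd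

omit [Fact p.Prime] [CharP F p] in
/-- Conjugation by an invertible matrix. -/
noncomputable def glConj (Q : Matrix (Fin 2) (Fin 2) F) (hQ : IsUnit Q.det) : SLtwo F →* SLtwo F where
  toFun g := ⟨Q * (g : Matrix (Fin 2) (Fin 2) F) * Q⁻¹, by
    rw [Matrix.det_mul, Matrix.det_mul, g.2, mul_one, ← Matrix.det_mul, Matrix.mul_nonsing_inv _ hQ,
      Matrix.det_one]⟩
  map_one' := Matrix.SpecialLinearGroup.ext _ _ fun i j => by
    simp [Matrix.mul_nonsing_inv _ hQ]
  map_mul' g h := Matrix.SpecialLinearGroup.ext _ _ fun i j => by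
    have e : Q * ((g : Matrix (Fin 2) (Fin 2) F) * h) * Q⁻¹ = Q * g * Q⁻¹ * (Q * h * Q⁻¹) := by
      simp only [Matrix.mul_assoc, Matrix.nonsing_inv_mul_cancel_left _ _ hQ]
    exact congrFun (congrFun e i) j

theorem isProd_of_trace_ne [Fintype F] {P : Subgroup (SLtwo F)}
    (hP : ∃ S : Sylow p (SLtwo F), (S : Subgroup (SLtwo F)) = P) {x : SLtwo F}
    (hsc : ∀ c : F, (x : Matrix (Fin 2) (Fin 2) F) ≠ c • 1)
    (ht : (x : Matrix (Fin 2) (Fin 2) F).trace ≠ 2) : IsProd P x := by
  classical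
  set M := (x : Matrix (Fin 2) (Fin 2) F) with hM
  set t := M.trace with htd
  obtain ⟨v, hv⟩ : ∃ v : Fin 2 → F, (M *ᵥ v) 0 * v 1 - v 0 * (M *ᵥ v) 1 ≠ 0 := by
    by_contra h
    push Not at h
    have h0 := h ![1, 0]
    have h1 := h ![0, 1]
    have h2 := h ![1, 1]
    simp [Matrix.mulVec, dotProduct, Fin.sum_univ_two] at h0 h1 h2
    refine hsc (M 0 0) ?_
    ext i j
    fin_cases i <;> fin_cases j <;> simp <;> first
      | assumption
      | linear_combination -h2 + h1 - h0
      | linear_combination h0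
      | linear_combination h1
  set Q : Matrix (Fin 2) (Fin 2) F :=
    !![(M *ᵥ v) 0 - v 0, v 0; (M *ᵥ v) 1 - v 1, v 1] with hQd
  have hQ : IsUnit Q.det := by
    rw [isUnit_iff_ne_zero, hQd, Matrix.det_fin_two_of]
    intro h; apply hv; linear_combination h
  have hsim : M * Q = Q * ((upper (1 : F) * lower (t - 2) : SLtwo F) : Matrix (Fin 2) (Fin 2) F) := by
    have hdet : M 0 0 * M 1 1 - M 0 1 * M 1 0 = 1 := by rw [← Matrix.det_fin_two]; exact x.2
    rw [Matrix.SpecialLinearGroup.coe_mul]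
    ext i j
    fin_cases i <;> fin_cases j <;>
      simp [hQd, htd, upper, lower, Matrix.mul_apply, Matrix.mulVec, dotProduct, Fin.sum_univ_two,
        Matrix.trace_fin_two]
    all_goals first
      | ring1
      | linear_combination (-(v 0)) * hdet
      | linear_combination (-(v 1)) * hdet
      | linear_combination (v 0) * hdet
      | linear_combination (v 1) * hdet
  set θ := glConj Q hQ with hθ
  have hx : θ (upper 1) * θ (lower (t - 2)) = x := by
    rw [← map_mul]
    apply Matrix.SpecialLinearGroup.ext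
    intro i j
    have e : Q * ((upper (1 : F) * lower (t - 2) : SLtwo F) : Matrix (Fin 2) (Fin 2) F) * Q⁻¹ = M := by
      rw [← hsim, Matrix.mul_nonsing_inv_cancel_right _ _ hQ]
    exact congrFun (congrFun e i) j
  have hlpow : ∀ n : ℕ, lower (t - 2) ^ n = lower (n * (t - 2)) := by
    intro n
    induction n with
    | zero => rw [pow_zero, Nat.cast_zero, zero_mul, lower_zero]
    | succ n ih => rw [pow_succ, ih, lower_mul]; congr 1; push_cast; ring
  have hu : θ (upper 1) ^ p = 1 := by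
    rw [← map_pow, upper_pow, CharP.cast_eq_zero, zero_mul, upper_zero, map_one]
  have hl : θ (lower (t - 2)) ^ p = 1 := by
    rw [← map_pow, hlpow, CharP.cast_eq_zero, zero_mul, lower_zero, map_one]
  obtain ⟨S, rfl⟩ := hP
  haveI : Finite (SLtwo F) := inferInstance
  have hconj : ∀ u : SLtwo F, u ^ p = 1 → ∃ a, u ∈ cnj a (S : Subgroup (SLtwo F)) := by
    intro u hu
    have hz : IsPGroup p (zpowers u) := by
      rintro ⟨_, i, rfl⟩
      refine ⟨1, Subtype.ext ?_⟩
      show (u ^ i) ^ p ^ 1 = 1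
      rw [pow_one, ← zpow_natCast, ← _root_.zpow_mul, mul_comm, _root_.zpow_mul, zpow_natCast, hu, _root_.one_zpow]
    obtain ⟨T, hT⟩ := hz.exists_le_sylow
    obtain ⟨a, ha⟩ := MulAction.exists_smul_eq (SLtwo F) S T
    refine ⟨a, ?_⟩
    have := hT (mem_zpowers u)
    rw [← ha, Sylow.coe_subgroup_smul] at this
    exact this
  obtain ⟨a, ha⟩ := hconj _ hu
  obtain ⟨b, hb⟩ := hconj _ hl
  have key : ∀ (w w' : SLtwo F) (c : SLtwo F), w ^ p = 1 → w' ∈ cnj c (S : Subgroup (SLtwo F)) →
      (x = w * w' ∨ x = w' * w) → w ∉ normalizer (cnj c (S : Subgroup (SLtwo F)) : Set (SLtwo F)) := by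
    intro w w' c hw hw' he hn
    have hz : IsPGroup p (zpowers w) := by
      rintro ⟨_, i, rfl⟩
      refine ⟨1, Subtype.ext ?_⟩
      show (w ^ i) ^ p ^ 1 = 1
      rw [pow_one, ← zpow_natCast, ← _root_.zpow_mul, mul_comm, _root_.zpow_mul, zpow_natCast, hw, _root_.one_zpow]
    have hsup : IsPGroup p ↥(zpowers w ⊔ cnj c (S : Subgroup (SLtwo F))) :=
      hz.to_sup_of_normal_right' (S.2.map _) (zpowers_le.2 hn)
    have hxm : x ∈ zpowers w ⊔ cnj c (S : Subgroup (SLtwo F)) := by
      rcases he with rfl | rfl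
      · exact mul_mem (mem_sup_left (mem_zpowers w)) (mem_sup_right hw')
      · exact mul_mem (mem_sup_right hw') (mem_sup_left (mem_zpowers w))
    obtain ⟨k, hk⟩ := hsup ⟨x, hxm⟩
    exact ht ((trace_eq_two_iff (p := p) x).2 ⟨k, congrArg Subtype.val hk⟩)
  exact ⟨a, b, _, _, ha, hb, key _ _ b hu hb (Or.inl hx.symm), key _ _ a hl ha (Or.inr hx.symm), hx⟩

theorem good_SLtwo [Fintype F] {P : Subgroup (SLtwo F)} (hP : IsPGroup p P)
    (hcard : Nat.card P = Fintype.card F) (x : SLtwo F) (hx : ¬ ∃ k : ℕ, x ^ p ^ k = 1) :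
    Good P x := by
  have hS : ∃ S : Sylow p (SLtwo F), (S : Subgroup (SLtwo F)) = P := by
    obtain ⟨k, hk⟩ := IsPGroup.iff_card.1 hP
    have hq : Fintype.card F = p ^ k := hcard.symm.trans hk
    have hk0 : k ≠ 0 := by
      rintro rfl
      exact (Fintype.one_lt_card (α := F)).ne' (by simpa using hq)
    refine ⟨Sylow.ofCard P ?_, rfl⟩
    rw [hk, card_SLtwo, hq]
    have h1 : 1 < (p ^ k) ^ 2 := Nat.one_lt_pow (by norm_num) (Nat.one_lt_pow hk0 hp.out.one_lt)
    rw [Nat.factorization_mul (pow_ne_zero _ hp.out.ne_zero) (by omega),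
      Nat.Prime.factorization_pow hp.out]
    have h2 : ¬ p ∣ (p ^ k) ^ 2 - 1 := fun hd => by
      have hd' : p ∣ (p ^ k) ^ 2 := dvd_pow (dvd_pow_self p hk0) two_ne_zero
      exact hp.out.not_dvd_one (by
        have := Nat.dvd_sub hd' hd
        rwa [Nat.sub_sub_self h1.le] at this)
    simp [Nat.factorization_eq_zero_of_not_dvd h2]
  have ht : (x : Matrix (Fin 2) (Fin 2) F).trace ≠ 2 := fun h => hx ((trace_eq_two_iff (p := p) x).1 h)
  by_cases hsc : ∀ c : F, (x : Matrix (Fin 2) (Fin 2) F) ≠ c • 1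
  · exact ⟨1, Or.inl (by rw [pow_one]; exact isProd_of_trace_ne hS hsc ht)⟩
  push Not at hsc
  obtain ⟨c, hc⟩ := hsc
  have hc2 : c * c = 1 := by
    have := x.2
    rw [hc, Matrix.det_smul, Matrix.det_one, Fintype.card_fin] at this
    linear_combination this
  have hc1 : c ≠ 1 := by
    rintro rfl
    apply ht
    rw [hc, one_smul, Matrix.trace_one, Fintype.card_fin]; norm_num
  have hcm : c = -1 := (mul_self_eq_one_iff.1 hc2).resolve_left hc1
  subst hcm
  have h2 : (2 : F) ≠ 0 := fun h => hc1 (by linear_combination -h)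
  let x₂ : SLtwo F := ofEntries 2 1 (-5) (-2) (by ring)
  have hne : ∀ y : SLtwo F, y 0 1 ≠ 0 → ∀ c : F, (y : Matrix (Fin 2) (Fin 2) F) ≠ c • 1 := by
    intro y hy c he
    apply hy
    rw [he]; simp
  refine ⟨1, Or.inr ⟨weyl, x₂, ?_, ?_, ?_, ?_, ?_⟩⟩
  · rw [pow_one]
    apply ext_entries <;> simp [hc, mul_00, mul_01, mul_10, mul_11]
  · rw [pow_one]
    apply ext_entries <;> simp [hc, x₂, mul_00, mul_01, mul_10, mul_11] <;> norm_num
  · refine isProd_of_trace_ne hS (hne _ (by simp)) ?_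
    simp [Matrix.trace_fin_two]
    exact fun h => h2 h.symm
  · refine isProd_of_trace_ne hS (hne _ (by simp [x₂])) ?_
    simp [x₂, Matrix.trace_fin_two]
    exact fun h => h2 h.symm
  · refine isProd_of_trace_ne hS (hne _ ?_) ?_
    · simp [x₂, Matrix.mul_apply, Fin.sum_univ_two]
      exact fun h => h2 (by linear_combination h)
    · simp [x₂, Matrix.trace_fin_two, Matrix.mul_apply, Fin.sum_univ_two]
      intro h
      have h8 : (2 : F) ^ 3 = 0 := by linear_combination -h
      exact h2 (pow_eq_zero_iff three_ne_zero |>.1 h8)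

end Cfsg.Agent.Lib.FrakLFpf
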